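import Groth.Agent.PtBumpLib.Point
import Groth.Agent.CIDivLib.Coh
import Groth.Agent.GorBlowLib.Sec
import Groth.Agent.DevissLib.ClosedImm
import Groth.Agent.CurvLib.SupportVanish
import Groth.Agent.MumfordLib.Induct

/-!
# Ideal sheaves of finite subschemes of projective space
-/

set_option autoImplicit false
set_option linter.style.haveILetI false
set_option linter.unusedSectionVars false
set_option maxHeartbeats 1000000
set_option backward.isDefEq.respectTransparency false
set_option backward.isDefEq.respectTransparency.types false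

universe u

open CategoryTheory CategoryTheory.Limits AlgebraicGeometry TopologicalSpace Opposite MvPolynomial

noncomputable section

namespace PtBumpLib

section General

variable {X : Scheme.{u}} {I : X.IdealSheafData}

/-- The first cohomology of a twisted ideal vanishes when sections restrict surjectively. -/
theorem subsingleton_H1_ideal {F : X.Modules} (hF : PicF.IsInvertible F) (h2 : Subsingleton (Coh.HH X F 1))
    (hs : Function.Surjective fun s : Γ(F, ⊤) => KFlatLib.puSec I.subschemeι s) :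
    Subsingleton (Coh.HH X (CohB1.tensorMod F (ClSub.idealMod I)) 1) := by
  obtain ⟨T, hT, ⟨e₁⟩, ⟨e₂⟩, ⟨e₃⟩⟩ := HdgLefLib.exists_restrict_seq I (AmpleDevLib.isFinLocFree_of_isInvertible hF)
  let i := I.subschemeι
  let adj := Scheme.Modules.pullbackPushforwardAdjunction i
  let q : F ⟶ (Coh.push i).obj ((Scheme.Modules.pullback i).obj F) := e₂.inv ≫ T.g ≫ e₃.hom
  haveI := hT.epi_g
  haveI : Epi q := inferInstance
  let α := (adj.homEquiv F _).symm q
  haveI : Epi α := by
    haveI := CycKSuppLib.isIso_counit i ((Scheme.Modules.pullback i).obj F)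
    rw [show α = _ from adj.homEquiv_counit F _ q]
    haveI : Epi ((Scheme.Modules.pullback i).map q) := inferInstance
    exact epi_comp _ _
  have hinv := CurvLib.locFree_of_isInvertible (AmpleDevLib.isInvertible_pb i hF)
  haveI := CohCmpLib.isIso_of_epi_rank_one hinv hinv α
  have hq : adj.unit.app F ≫ (Coh.push i).map α = q :=
    (adj.homEquiv_unit F _ α).symm.trans ((adj.homEquiv F _).apply_symm_apply q)
  have hsurj : Function.Surjective (T.g.app ⊤) := fun y => by
    haveI : IsIso ((Coh.push i).map α) := inferInstance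
    obtain ⟨s, hs'⟩ := hs ((inv ((Coh.push i).map α)).app ⊤ (e₃.hom.app ⊤ y))
    refine ⟨e₂.inv.app ⊤ s, ?_⟩
    have hinj : ∀ a b, e₃.hom.app ⊤ a = e₃.hom.app ⊤ b → a = b := fun a b hab =>
      (congr($(e₃.hom_inv_id).app ⊤ a)).symm.trans ((congrArg (e₃.inv.app ⊤) hab).trans congr($(e₃.hom_inv_id).app ⊤ b))
    refine hinj _ _ ?_
    show q.app ⊤ s = _
    rw [← hq]
    exact (congrArg (((Coh.push i).map α).app ⊤) hs').trans congr($(IsIso.inv_hom_id ((Coh.push i).map α)).app ⊤ _)
  exact HdgLefLib.sub_iso e₁ 1 (GorBlowLib.subsingleton_H1_of_surjective hT (HdgLefLib.sub_iso e₂.symm 1 h2) hsurj)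

end General

variable {k : Type u} [Field k] [IsAlgClosed k] {N : ℕ}

local notation "P" => CohB1.ProjSpace N k
local notation "𝒮" => CohB1.polyGrading N k

/-- Restriction of forms to a finite subscheme is surjective from the degree `Σ μ + t - 1`. -/
theorem surjective_puSec_twist {S : Scheme.{u}} [DiscreteTopology S] [Fintype S] (ι : S ⟶ P) [IsClosedImmersion ι]
    {μ : S → ℕ} (hμ : ∀ x : S, IsLocalRing.maximalIdeal (S.presheaf.stalk x) ^ (μ x + 1) = ⊥)
    {d : ℕ} (hd : ∑ w, (μ w + 1) ≤ d + 1) :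
    Function.Surjective fun s : Γ(Twist.twistProjSpace N k (d : ℤ), ⊤) => KFlatLib.puSec ι (U := ⊤) s := fun t => by
  obtain ⟨r, hr⟩ := CodimOneRestrLib.exists_coor ι d t
  obtain ⟨a, ha, rfl⟩ := exists_forms_deg ι hμ hd r
  exact ⟨Twist.globalOf 𝒮 ⟨a, (mem_homogeneousSubmodule _ _).2 ha⟩,
    CodimOneRestrLib.Coor.ext ι (CodimOneRestrLib.coor_puSec ι d ⟨a, _⟩) hr⟩

variable (I : (CohB1.ProjSpace N k).IdealSheafData) [DiscreteTopology I.subscheme] [Fintype I.subscheme]
  {μ : I.subscheme → ℕ} (hμ : ∀ x : I.subscheme, IsLocalRing.maximalIdeal (I.subscheme.presheaf.stalk x) ^ (μ x + 1) = ⊥)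

include hμ

theorem subsingleton_H1_twist (j : ℤ) (hj : ((∑ w, (μ w + 1) : ℕ) : ℤ) - 1 ≤ j) :
    Subsingleton (Coh.HH P (CohB1.tensorMod (ClSub.idealMod I) (Twist.twistProjSpace N k j)) 1) := by
  refine HdgLefLib.sub_iso (HilbPolyLib.swapIso _ _) 1 (subsingleton_H1_ideal (PicPnLib.twist_inv N k j)
    (PnCohLib.subsingleton_HH_twist (n := N) (R := k) j 1 (by omega) (by omega)) ?_)
  rcases lt_or_ge j 0 with h | h
  · haveI : IsEmpty I.subscheme := ⟨fun x => by
      have := Finset.single_le_sum (f := fun w => μ w + 1) (fun _ _ => Nat.zero_le _) (Finset.mem_univ x)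
      omega⟩
    exact fun t => ⟨0, CodimOneRestrLib.eq_of_res fun z => isEmptyElim z⟩
  · obtain ⟨d, rfl⟩ := Int.eq_ofNat_of_zero_le h
    exact surjective_puSec_twist I.subschemeι hμ (by omega)

theorem isMRegular : Curv2.IsMRegular k N (ClSub.idealMod I) ((∑ w, (μ w + 1) : ℕ) : ℤ) := by
  intro i hi hiN
  rcases Nat.lt_or_ge i 2 with h | h
  · obtain rfl : i = 1 := by omega
    exact subsingleton_H1_twist I hμ _ (by omega)
  obtain ⟨q, rfl⟩ : ∃ q, i = q + 1 := ⟨i - 1, by omega⟩
  set j : ℤ := ((∑ w, (μ w + 1) : ℕ) : ℤ) - ((q + 1 : ℕ) : ℤ) with hj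
  refine HdgLefLib.sub_iso (HilbPolyLib.swapIso _ _) (q + 1) ?_
  obtain ⟨T, hT, ⟨e₁⟩, ⟨e₂⟩, ⟨e₃⟩⟩ := HdgLefLib.exists_restrict_seq I
    (AmpleDevLib.isFinLocFree_of_isInvertible (PicPnLib.twist_inv N k j))
  haveI : IsProper (P ↘ Spec (CommRingCat.of k)) := MumfordLib.isProper_projSpace (n := N) k
  haveI := CurvLib.isNoetherian k (X := P)
  refine HdgLefLib.sub_iso e₁ (q + 1) (PnCohLib.subsingleton_X₁_succ hT
    (HdgLefLib.sub_iso e₂.symm (q + 1) (PnCohLib.subsingleton_HH_twist (n := N) (R := k) j (q + 1) (by omega) (by omega)))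
    (HdgLefLib.sub_iso e₃.symm q ?_))
  refine CurvLib.subsingleton_HH_of_support _ I.subschemeι.isClosedEmbedding.isClosed_range
    (DevissLib.support_push_subset I.subschemeι _) (d := 0) ?_ q (by omega)
  haveI : Finite (Set.range I.subschemeι.base) := Set.finite_range _
  haveI : DiscreteTopology (Set.range I.subschemeι.base) :=
    I.subschemeι.isClosedEmbedding.isEmbedding.toHomeomorph.symm.isEmbedding.discreteTopology
  exact (topologicalKrullDim_zero_of_discreteTopology _).trans (le_of_eq Nat.cast_zero.symm)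

end PtBumpLib
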