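import Mathlib.RingTheory.Nullstellensatz
import Mathlib.RingTheory.MvPolynomial.Ideal
import Groth.Agent.CodimOneRestrLib.Geo

/-!
# Forms of small degree on finite subschemes with bounded nilpotency orders
-/

set_option autoImplicit false
set_option linter.style.haveILetI false
set_option linter.unusedSectionVars false
set_option backward.isDefEq.respectTransparency false
set_option backward.isDefEq.respectTransparency.types false

universe u

open CategoryTheory CategoryTheory.Limits AlgebraicGeometry TopologicalSpace Opposite MvPolynomial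
open CodimOneRestrLib (W dz chart dd R dz_X_chart dz_surjective isUnit_dz isNilpotent_dz exists_form)

noncomputable section

namespace PtBumpLib

section Alg

variable {k : Type u} [Field k] {σ : Type*}

/-- Scaling the point scales a form by the power of the scalar. -/
theorem eval_mul_point {p : MvPolynomial σ k} {d : ℕ} (hp : p.IsHomogeneous d) (c : k) (x : σ → k) :
    eval (fun i => c * x i) p = c ^ d * eval x p := by
  simp only [eval_eq, Finset.mul_sum]
  refine Finset.sum_congr rfl fun u hu => ?_
  simp only [mul_pow, Finset.prod_mul_distrib, Finset.prod_pow_eq_pow_sum]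
  rw [show ∑ i ∈ u.support, u i = d by
    simpa [Finsupp.weight_apply, Finsupp.sum] using hp (mem_support_iff.mp hu)]
  ring

end Alg

variable {k : Type u} [Field k] {N : ℕ} {S : Scheme.{u}} [DiscreteTopology S] (ι : S ⟶ CohB1.ProjSpace N k)

local notation "𝒮" => CohB1.polyGrading N k
local notation "Poly" => MvPolynomial (Fin (N + 1)) k

/-- The value at a point, in the stalk. -/
def germW (z : S) : Γ(S, W z) →+* S.presheaf.stalk z := (S.presheaf.germ (W z) z rfl).hom

theorem germW_injective (z : S) : Function.Injective (germW z) := fun a b h =>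
  TopCat.Presheaf.section_ext S.sheaf _ a b fun x hx => by
    obtain rfl : x = z := hx
    exact h

theorem germW_surjective (z : S) : Function.Surjective (germW z) := fun t => by
  obtain ⟨U, hU, s, rfl⟩ := S.presheaf.exists_germ_eq t
  refine ⟨S.presheaf.map (homOfLE (show W z ≤ U from fun w hw => by obtain rfl : w = z := hw; exact hU)).op s, ?_⟩
  exact S.presheaf.germ_res_apply _ z rfl s

variable [IsAlgClosed k]

/-- Evaluation of forms at a rational point. -/
def val (z : S) : Poly →+* IsLocalRing.ResidueField (S.presheaf.stalk z) :=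
  ((IsLocalRing.residue _).comp (germW z)).comp (dz ι z)

theorem val_surjective [IsClosedImmersion ι] (z : S) : Function.Surjective (val ι z) :=
  (IsLocalRing.residue_surjective.comp (germW_surjective z)).comp (dz_surjective ι z)

theorem exists_pt [IsClosedImmersion ι] (z : S) :
    ∃ x : Fin (N + 1) → k, ∀ p : Poly, val ι z p = 0 ↔ eval x p = 0 := by
  haveI : (RingHom.ker (val ι z)).IsMaximal := RingHom.ker_isMaximal_of_surjective _ (val_surjective ι z)
  obtain ⟨x, hx⟩ := (MvPolynomial.isMaximal_iff_eq_vanishingIdeal_singleton (K := k)).mp ‹_›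
  refine ⟨x, fun p => ?_⟩
  rw [← RingHom.mem_ker, hx, mem_vanishingIdeal_singleton_iff]
  rfl

variable [IsClosedImmersion ι]

/-- The coordinates of a point. -/
def pt (z : S) : Fin (N + 1) → k := (exists_pt ι z).choose

theorem val_eq_zero_iff (z : S) (p : Poly) : val ι z p = 0 ↔ eval (pt ι z) p = 0 := (exists_pt ι z).choose_spec p

theorem pt_chart (z : S) : pt ι z (chart ι z) = 1 := by
  have h := (val_eq_zero_iff ι z (X (chart ι z) - 1)).mp (by
    rw [val, RingHom.comp_apply, map_sub, map_one, dz_X_chart, sub_self, map_zero])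
  simpa [sub_eq_zero] using h

theorem germW_mem_iff (z : S) (p : Poly) :
    germW z (dz ι z p) ∈ IsLocalRing.maximalIdeal (S.presheaf.stalk z) ↔ eval (pt ι z) p = 0 := by
  rw [← val_eq_zero_iff, ← IsLocalRing.residue_eq_zero_iff]
  rfl

theorem isUnit_dz_iff (z : S) (p : Poly) : IsUnit (dz ι z p) ↔ eval (pt ι z) p ≠ 0 := by
  rw [← isUnit_map_iff (RingEquiv.ofBijective (germW z) ⟨germW_injective z, germW_surjective z⟩), Ne, ← germW_mem_iff,
    IsLocalRing.mem_maximalIdeal, mem_nonunits_iff, not_not]
  rfl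

/-- The linear forms vanishing at a point. -/
def lin (z : S) (l : Fin (N + 1)) : Poly := X l - C (pt ι z l) * X (chart ι z)

theorem lin_isHomogeneous (z : S) (l : Fin (N + 1)) : (lin ι z l).IsHomogeneous 1 := by
  refine (isHomogeneous_X k l).sub ?_
  simpa using (isHomogeneous_C (Fin (N + 1)) (pt ι z l)).mul (isHomogeneous_X k (chart ι z))

theorem lin_mem (z : S) (l : Fin (N + 1)) :
    germW z (dz ι z (lin ι z l)) ∈ IsLocalRing.maximalIdeal (S.presheaf.stalk z) := by
  rw [germW_mem_iff]
  simp [lin, pt_chart]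

/-- A linear form separating two points. -/
theorem exists_lin_ne {z w : S} (h : w ≠ z) : ∃ l, eval (pt ι z) (lin ι w l) ≠ 0 := by
  by_contra hh
  push Not at hh
  obtain ⟨d, a, ha, h1, h2⟩ := exists_form (x := ι z) (y := ι w)
    (by simpa using ι.isClosedEmbedding.isClosedMap _ (isClosed_discrete ({w} : Set S)))
    (fun e => h (ι.isClosedEmbedding.injective e).symm)
  have hz : eval (pt ι z) a ≠ 0 := (isUnit_dz_iff ι z a).mp (isUnit_dz ι z ha h1)
  have hw : eval (pt ι w) a = 0 := by
    by_contra hne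
    obtain ⟨n, hn⟩ := isNilpotent_dz ι w ha h2
    have h3 := ((isUnit_dz_iff ι w a).mpr hne).pow n
    rw [hn, isUnit_zero_iff] at h3
    have h4 := congrArg (germW w) h3
    rw [map_zero, map_one] at h4
    exact zero_ne_one h4
  refine hz ?_
  have e : pt ι z = fun i => pt ι z (chart ι w) * pt ι w i := by
    funext i
    have := hh i
    simp [lin, sub_eq_zero] at this
    rw [this, mul_comm]
  rw [e, eval_mul_point ((mem_homogeneousSubmodule _ _).1 ha), hw, mul_zero]

/-- Nilpotency orders kill long products. -/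
theorem eq_zero_of_mem_pow {μ : S → ℕ} (hμ : ∀ x : S, IsLocalRing.maximalIdeal (S.presheaf.stalk x) ^ (μ x + 1) = ⊥)
    (z : S) {n : ℕ} (hn : μ z + 1 ≤ n) {a : Γ(S, W z)}
    (ha : germW z a ∈ IsLocalRing.maximalIdeal (S.presheaf.stalk z) ^ n) : a = 0 := by
  refine germW_injective z ?_
  rw [map_zero]
  have := Ideal.pow_le_pow_right hn ha
  rwa [hμ, Ideal.mem_bot] at this

/-- Forms of degree `μ` give every function near a point. -/
theorem exists_dz_eq {μ : S → ℕ} (hμ : ∀ x : S, IsLocalRing.maximalIdeal (S.presheaf.stalk x) ^ (μ x + 1) = ⊥)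
    (z : S) {d : ℕ} (hd : μ z ≤ d) (u : Γ(S, W z)) : ∃ h : Poly, h.IsHomogeneous d ∧ dz ι z h = u := by
  classical
  obtain ⟨p, rfl⟩ := dz_surjective ι z u
  let q : Poly := bind₁ (fun l => X l + C (pt ι z l)) p
  let f : Poly →+* Γ(S, W z) := (dz ι z).comp (bind₁ (lin ι z)).toRingHom
  have hfq : dz ι z p = f q := by
    have he : ((f.comp (bind₁ fun l => X l + C (pt ι z l)).toRingHom)) = dz ι z := by
      refine MvPolynomial.ringHom_ext (fun c => ?_) (fun l => ?_)
      · simp [f]
      · simp [f, lin, map_sub, map_mul, dz_X_chart]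
    exact (DFunLike.congr_fun he p).symm
  have hzero : ∀ r ∈ idealOfVars (Fin (N + 1)) k ^ (μ z + 1), f r = 0 := fun r hr => by
    refine eq_zero_of_mem_pow hμ z le_rfl ?_
    have hle : idealOfVars (Fin (N + 1)) k ≤ (IsLocalRing.maximalIdeal (S.presheaf.stalk z)).comap ((germW z).comp f) := by
      refine Ideal.span_le.mpr ?_
      rintro _ ⟨l, rfl⟩
      simpa [f] using lin_mem ι z l
    exact (Ideal.pow_right_mono hle _).trans (Ideal.le_comap_pow _ _) hr
  refine ⟨∑ l ∈ Finset.range (μ z + 1), bind₁ (lin ι z) (homogeneousComponent l q) * X (chart ι z) ^ (d - l),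
    IsHomogeneous.sum _ _ _ fun l hl => ?_, ?_⟩
  · have hl' : l ≤ d := (Nat.lt_succ_iff.mp (Finset.mem_range.mp hl)).trans hd
    have h1 := ((homogeneousComponent_isHomogeneous l q).aeval (lin ι z) (lin_isHomogeneous ι z)).mul
      ((isHomogeneous_X k (chart ι z)).pow (d - l))
    rw [one_mul, one_mul, show l + (d - l) = d by omega] at h1
    exact h1
  · rw [hfq, map_sum]
    simp only [map_mul, map_pow, dz_X_chart, one_pow, mul_one]
    change ∑ l ∈ Finset.range (μ z + 1), f (homogeneousComponent l q) = f q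
    rw [← map_sum, ← sub_eq_zero, ← map_sub]
    refine hzero _ ((mem_pow_idealOfVars_iff' _ _).mpr fun x hx => ?_)
    rw [coeff_sub, coeff_sum]
    simp only [coeff_homogeneousComponent]
    rw [Finset.sum_ite_eq, if_pos (Finset.mem_range.mpr hx), sub_self]

/-- A form concentrated at one point, of controlled degree. -/
theorem exists_bump_deg [Fintype S] {μ : S → ℕ} (hμ : ∀ x : S, IsLocalRing.maximalIdeal (S.presheaf.stalk x) ^ (μ x + 1) = ⊥)
    (z : S) [DecidableEq S] : ∃ e : Poly, e.IsHomogeneous (∑ w ∈ Finset.univ.erase z, (μ w + 1)) ∧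
      IsUnit (dz ι z e) ∧ ∀ w, w ≠ z → dz ι w e = 0 := by
  choose! l hl using fun w (h : w ≠ z) => exists_lin_ne ι h
  refine ⟨∏ w ∈ Finset.univ.erase z, lin ι w (l w) ^ (μ w + 1), IsHomogeneous.prod _ _ _ fun w _ => ?_, ?_, fun w hw => ?_⟩
  · simpa using (lin_isHomogeneous ι w (l w)).pow (μ w + 1)
  · rw [map_prod]
    exact IsUnit.prod_iff.mpr fun w hw => by
      rw [map_pow]
      exact ((isUnit_dz_iff ι z _).mpr (hl w (Finset.ne_of_mem_erase hw))).pow _
  · rw [map_prod]
    refine Finset.prod_eq_zero (Finset.mem_erase.mpr ⟨hw, Finset.mem_univ w⟩) (eq_zero_of_mem_pow hμ w le_rfl ?_)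
    rw [map_pow, map_pow]
    exact Ideal.pow_mem_pow (lin_mem ι w _) _

/-- **Forms of degree `Σ μ + t - 1` give every function.** -/
theorem exists_forms_deg [Fintype S] {μ : S → ℕ} (hμ : ∀ x : S, IsLocalRing.maximalIdeal (S.presheaf.stalk x) ^ (μ x + 1) = ⊥)
    {d : ℕ} (hd : ∑ w, (μ w + 1) ≤ d + 1) (t : R S) : ∃ a : Poly, a.IsHomogeneous d ∧ dd ι a = t := by
  classical
  choose e he hu h0 using exists_bump_deg ι hμ
  have hdeg : ∀ z, ∑ w ∈ Finset.univ.erase z, (μ w + 1) + μ z ≤ d := fun z => by
    have := Finset.sum_erase_add Finset.univ (fun w => μ w + 1) (Finset.mem_univ z)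
    omega
  choose h hh hp using fun z => exists_dz_eq ι hμ z (d := d - ∑ w ∈ Finset.univ.erase z, (μ w + 1))
    (by have := hdeg z; omega) (↑(hu z).unit⁻¹ * t z)
  refine ⟨∑ z, e z * h z, IsHomogeneous.sum _ _ _ fun z _ => ?_, funext fun w => ?_⟩
  · have h1 := (he z).mul (hh z)
    rwa [Nat.add_sub_cancel' (by have := hdeg z; omega)] at h1
  · rw [CodimOneRestrLib.dd_apply, map_sum, Finset.sum_eq_single w (fun z _ hz => by rw [map_mul, h0 z w (Ne.symm hz), zero_mul])
      (fun h => absurd (Finset.mem_univ w) h), map_mul, hp, ← mul_assoc, IsUnit.mul_val_inv, one_mul]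

end PtBumpLib
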